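import Cfsg.Prelude.Def_SevenCases
import Cfsg.Prelude.Def_KGroupFacts
import Mathlib

/-! Elementary facts on quotients of quasisimple groups and on bounding centres by Schur multipliers. -/

namespace CfsgLib.CpQuot

open Subgroup

universe u v w

variable {K : Type u} [Group K]

theorem perfect (hK : Cfsg.IsQuasisimple K) : commutator K = ⊤ := hK.1.commutator_eq_top

/-- A perfect group mapped into a group with abelian image is killed. -/
theorem eq_one_of_perfect {H : Type v} [CommGroup H] (hp : commutator K = ⊤) (f : K →* H) (x : K) :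
    f x = 1 := by
  have h : commutator K ≤ f.ker := Abelianization.commutator_subset_ker f
  exact h (hp ▸ mem_top x)

theorem le_center (hK : Cfsg.IsQuasisimple K) (N : Subgroup K) [N.Normal] (hN : N ≠ ⊤) :
    N ≤ center K := by
  haveI := hK.2
  rcases Subgroup.Normal.eq_bot_or_eq_top
      (Subgroup.Normal.map (inferInstance : N.Normal) (QuotientGroup.mk' (center K))
        (QuotientGroup.mk'_surjective _)) with h | h
  · rwa [(Subgroup.map_eq_bot_iff N), QuotientGroup.ker_mk'] at h
  · exfalso
    apply hN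
    have hsup : N ⊔ center K = ⊤ := by
      have := congrArg (Subgroup.comap (QuotientGroup.mk' (center K))) h
      rwa [Subgroup.comap_map_eq, QuotientGroup.ker_mk', Subgroup.comap_top] at this
    have hcomm : commutator K ≤ N := by
      rw [commutator_def, Subgroup.commutator_le]
      intro a _ b _
      have ha : a ∈ N ⊔ center K := by rw [hsup]; exact mem_top a
      obtain ⟨n, hn, z, hz, rfl⟩ := Subgroup.mem_sup_of_normal_left.1 ha
      rw [← QuotientGroup.eq_one_iff (N := N)]
      have hn1 : (n : K ⧸ N) = 1 := (QuotientGroup.eq_one_iff n).2 hn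
      have hc : Commute (z : K ⧸ N) (b : K ⧸ N) :=
        Commute.map (show Commute z b from (Subgroup.mem_center_iff.1 hz b).symm) (QuotientGroup.mk' N)
      rw [commutatorElement_def]
      simp only [QuotientGroup.mk_mul, QuotientGroup.mk_inv, hn1, one_mul]
      rw [hc.eq, mul_inv_cancel_right, mul_inv_cancel]
    exact top_le_iff.1 (perfect hK ▸ hcomm)

theorem center_quotient (hK : Cfsg.IsQuasisimple K) (N : Subgroup K) [N.Normal] (hN : N ≠ ⊤) :
    center (K ⧸ N) = (center K).map (QuotientGroup.mk' N) := by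
  haveI := hK.2
  refine le_antisymm ?_ ?_
  · intro x hx
    obtain ⟨a, rfl⟩ := QuotientGroup.mk'_surjective N x
    set M : Subgroup K := (center (K ⧸ N)).comap (QuotientGroup.mk' N) with hM
    have hMN : M ≠ ⊤ := by
      intro h
      apply hN
      refine top_le_iff.1 (perfect hK ▸ ?_)
      rw [commutator_def, Subgroup.commutator_le]
      intro a _ b _
      have ha : (a : K ⧸ N) ∈ center (K ⧸ N) := (h ▸ mem_top a : a ∈ M)
      rw [← QuotientGroup.eq_one_iff (N := N), commutatorElement_def]
      simp only [QuotientGroup.mk_mul, QuotientGroup.mk_inv]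
      rw [← Subgroup.mem_center_iff.1 ha, mul_inv_cancel_right, mul_inv_cancel]
    exact ⟨a, le_center hK M hMN hx, rfl⟩
  · rintro _ ⟨z, hz, rfl⟩
    exact Subgroup.mem_center_iff.2 fun x => by
      obtain ⟨b, rfl⟩ := QuotientGroup.mk'_surjective N x
      rw [← map_mul, ← map_mul, Subgroup.mem_center_iff.1 hz b]

/-- The quotient of `K ⧸ N` by its centre is the quotient of `K` by its centre. -/
noncomputable def quotQuot (hK : Cfsg.IsQuasisimple K) (N : Subgroup K) [N.Normal] (hN : N ≠ ⊤) :
    (K ⧸ N) ⧸ center (K ⧸ N) ≃* K ⧸ center K :=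
  (QuotientGroup.quotientMulEquivOfEq (center_quotient hK N hN)).trans
    (QuotientGroup.quotientQuotientEquivQuotient N (center K) (le_center hK N hN))

theorem isQuasisimple (hK : Cfsg.IsQuasisimple K) (N : Subgroup K) [N.Normal] (hN : N ≠ ⊤) :
    Cfsg.IsQuasisimple (K ⧸ N) := by
  haveI := hK.1
  haveI := hK.2
  refine ⟨inferInstance, ?_⟩
  haveI : Nontrivial ((K ⧸ N) ⧸ center (K ⧸ N)) := (quotQuot hK N hN).toEquiv.nontrivial
  exact (quotQuot hK N hN).isSimpleGroup

theorem isPGroup_center (hK : Cfsg.IsQuasisimple K) (N : Subgroup K) [N.Normal] (hN : N ≠ ⊤) {p : ℕ}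
    (hp : IsPGroup p ↥(center K)) : IsPGroup p ↥(center (K ⧸ N)) := by
  rw [center_quotient hK N hN]
  exact hp.map _

theorem card_center_mul [Finite K] (hK : Cfsg.IsQuasisimple K) (N : Subgroup K) [N.Normal] (hN : N ≠ ⊤) :
    Nat.card ↥(center (K ⧸ N)) * Nat.card N = Nat.card ↥(center K) := by
  rw [center_quotient hK N hN]
  have h := Subgroup.card_eq_card_quotient_mul_card_subgroup
    ((QuotientGroup.mk' N).domRestrict (center K)).ker
  rw [Nat.card_congr (QuotientGroup.quotientKerEquivRange
    ((QuotientGroup.mk' N).domRestrict (center K))).toEquiv, MonoidHom.domRestrict_range,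
    MonoidHom.ker_domRestrict, QuotientGroup.ker_mk',
    Nat.card_congr (Subgroup.subgroupOfEquivOfLe (le_center hK N hN)).toEquiv] at h
  exact h.symm

/-- The kernel of a perfect finite central extension of `S` is an image of the multiplier of `S`. -/
theorem exists_surjection [Finite K] {S : Type} [Group S] {A : Type w} [CommGroup A]
    (hS : Cfsg.HasSchurMultiplier S A) (hp : commutator K = ⊤) (σ : K →* S)
    (hσ : Function.Surjective σ) (hc : σ.ker ≤ center K) :
    ∃ π : A →* σ.ker, Function.Surjective π := by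
  let e : Shrink.{0} K ≃* K := Shrink.mulEquiv
  haveI : Finite (Shrink.{0} K) := Finite.of_equiv K e.symm.toEquiv
  let τ : Shrink.{0} K →* S := σ.comp e.toMonoidHom
  have hmem : ∀ x, x ∈ τ.ker ↔ e x ∈ σ.ker := fun x => Iff.rfl
  have hp' : commutator (Shrink.{0} K) = ⊤ := by
    refine top_le_iff.1 fun x _ => ?_
    have h1 : e x ∈ (commutator (Shrink.{0} K)).map e.toMonoidHom := by
      rw [commutator_def, Subgroup.map_commutator, Subgroup.map_top_of_surjective _ e.surjective,
        ← commutator_def, hp]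
      exact mem_top _
    obtain ⟨y, hy, hye⟩ := h1
    rwa [← e.injective hye]
  have hstem : Cfsg.IsStemExtension τ := by
    refine ⟨hσ.comp e.surjective, fun x hx => Subgroup.mem_center_iff.2 fun y => e.injective ?_, ?_⟩
    · rw [map_mul, map_mul]
      exact Subgroup.mem_center_iff.1 (hc ((hmem x).1 hx)) (e y)
    · rw [hp']; exact le_top
  obtain ⟨π, hπ⟩ := hS.2 (Shrink.{0} K) τ hstem
  let f : τ.ker →* σ.ker :=
    { toFun := fun x => ⟨e x.1, (hmem _).1 x.2⟩
      map_one' := Subtype.ext (map_one e)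
      map_mul' := fun x y => Subtype.ext (map_mul e _ _) }
  refine ⟨f.comp π, fun y => ?_⟩
  obtain ⟨a, ha⟩ := hπ ⟨e.symm y.1, (hmem _).2 (by rw [e.apply_symm_apply]; exact y.2)⟩
  exact ⟨a, Subtype.ext (by simp [f, ha])⟩

theorem card_ker_dvd [Finite K] {S : Type} [Group S] {A : Type w} [CommGroup A] [Finite A]
    (hS : Cfsg.HasSchurMultiplier S A) (hp : commutator K = ⊤) (σ : K →* S)
    (hσ : Function.Surjective σ) (hc : σ.ker ≤ center K) : Nat.card σ.ker ∣ Nat.card A := by
  obtain ⟨π, hπ⟩ := exists_surjection hS hp σ hσ hc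
  exact Subgroup.card_dvd_of_surjective π hπ

theorem card_center_dvd [Finite K] {S : Type} [Group S] {A : Type w} [CommGroup A] [Finite A]
    (hK : Cfsg.IsQuasisimple K) (hS : Cfsg.HasSchurMultiplier S A)
    (e : K ⧸ center K ≃* S) : Nat.card ↥(center K) ∣ Nat.card A := by
  have hker : (e.toMonoidHom.comp (QuotientGroup.mk' (center K))).ker = center K := by
    ext x; simp [MonoidHom.mem_ker]
  have h := card_ker_dvd hS (perfect hK) (e.toMonoidHom.comp (QuotientGroup.mk' (center K)))
    (e.surjective.comp (QuotientGroup.mk'_surjective _)) hker.le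
  rwa [hker] at h

/-- `K ⧸ N` is `K` for trivial `N`. -/
noncomputable def botEquiv (N : Subgroup K) [N.Normal] (h : N = ⊥) : K ⧸ N ≃* K :=
  (QuotientGroup.quotientMulEquivOfEq h).trans QuotientGroup.quotientBot

theorem eq_bot_of_le_center_bot (hK : Cfsg.IsQuasisimple K) (N : Subgroup K) [N.Normal] (hN : N ≠ ⊤)
    (hZ : center K = ⊥) : N = ⊥ :=
  eq_bot_iff.2 (hZ ▸ le_center hK N hN)

theorem center_congr_eq_bot {L : Type v} [Group L] (e : K ≃* L) (h : center L = ⊥) : center K = ⊥ := by
  refine eq_bot_iff.2 fun x hx => ?_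
  have : e x ∈ center L := Subgroup.mem_center_iff.2 fun y => by
    obtain ⟨z, rfl⟩ := e.surjective y
    rw [← map_mul, ← map_mul, Subgroup.mem_center_iff.1 hx z]
  rw [h, Subgroup.mem_bot] at this
  exact Subgroup.mem_bot.2 (e.injective (by rw [this, map_one]))

theorem card_center_congr {L : Type v} [Group L] (e : K ≃* L) :
    Nat.card ↥(center K) = Nat.card ↥(center L) :=
  Nat.card_congr (Subgroup.centerCongr e).toEquiv

/-- Centre quotients of isomorphic groups. -/
noncomputable def quotCenterCongr {L : Type v} [Group L] (e : K ≃* L) :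
    K ⧸ center K ≃* L ⧸ center L :=
  QuotientGroup.congr (center K) (center L) e (by
    ext y
    constructor
    · rintro ⟨x, hx, rfl⟩
      exact (Subgroup.centerCongr e ⟨x, hx⟩).2
    · intro hy
      exact ⟨e.symm y, (Subgroup.centerCongr e.symm ⟨y, hy⟩).2, e.apply_symm_apply y⟩)

theorem pRankLE_congr {L : Type v} [Group L] (e : K ≃* L) {p k : ℕ} (h : Cfsg.PRankLE p k K) :
    Cfsg.PRankLE p k L := by
  intro A hA hpow
  rw [Nat.card_congr (A.equivMapOfInjective (e.symm : L →* K) e.symm.injective).toEquiv]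
  refine h _ ⟨⟨fun a b => ?_⟩⟩ ?_
  · obtain ⟨_, a, ha, rfl⟩ := a
    obtain ⟨_, b, hb, rfl⟩ := b
    have hab : a * b = b * a :=
      congrArg Subtype.val (hA.is_comm.comm (⟨a, ha⟩ : A) ⟨b, hb⟩)
    exact Subtype.ext (by
      show (e.symm : L →* K) a * (e.symm : L →* K) b = (e.symm : L →* K) b * (e.symm : L →* K) a
      rw [← map_mul, ← map_mul, hab])
  · rintro _ ⟨a, ha, rfl⟩
    rw [← map_pow, hpow a ha, map_one]

theorem pRankAtLeast_congr {L : Type v} [Group L] (e : K ≃* L) {p k : ℕ}
    (h : Cfsg.PRankAtLeast p k K) : Cfsg.PRankAtLeast p k L := by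
  obtain ⟨A, hA, hpow, hc⟩ := h
  refine ⟨A.map (e : K →* L), ⟨⟨fun a b => ?_⟩⟩, ?_, ?_⟩
  · obtain ⟨_, a, ha, rfl⟩ := a
    obtain ⟨_, b, hb, rfl⟩ := b
    have hab : a * b = b * a :=
      congrArg Subtype.val (hA.is_comm.comm (⟨a, ha⟩ : A) ⟨b, hb⟩)
    exact Subtype.ext (by
      show (e : K →* L) a * (e : K →* L) b = (e : K →* L) b * (e : K →* L) a
      rw [← map_mul, ← map_mul, hab])
  · rintro _ ⟨a, ha, rfl⟩
    rw [← map_pow, hpow a ha, map_one]
  · rwa [← Nat.card_congr (A.equivMapOfInjective (e : K →* L) e.injective).toEquiv]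

end CfsgLib.CpQuot
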